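import Cfsg.Agent.Lib.Helper7.NS23Bridge

/-!
# Piece D of the S2650 farm (helper7): the diagonal of `theta`
-/

set_option autoImplicit false

namespace Cfsg.Agent.Lib.Helper95.NS23

open Cfsg Cfsg.Agent.Lib.Helper27 Cfsg.Agent.Lib.Helper7.NS23

theorem theta_self {x : Wd} (hx : x ∈ C0) :
    theta x x = if (support₂ x).card = 12 then 1 else 0 := by
  obtain ⟨m, hm, h23, rfl⟩ := exists_mask_of_mem_C0 hx
  rw [theta_wordOf, support₂_wordOf, card_unmask]
  have h := forall_isCode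
    (fun m => Bool.rec (Nat.beq (Nat.mod (pc (Nat.land (tauM m) m)) 2)
      (Bool.rec 0 1 (Nat.beq (pc m) 12))) true (Nat.testBit m 23))
    (by decide +kernel) m hm
  simp only [h23] at h
  have h2 := Nat.eq_of_beq_eq_true h
  have h3 : ((pc (tauM m &&& m) : ℕ) : ZMod 2) = ((pc (tauM m &&& m) % 2 : ℕ) : ZMod 2) := by
    rw [ZMod.natCast_mod]
  rw [h3]
  have h4 : pc (tauM m &&& m) % 2 = Bool.rec 0 1 (Nat.beq (pc m) 12) := h2
  rw [h4]
  by_cases h12 : pc m = 12
  · rw [if_pos h12, h12]; rfl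
  · rw [if_neg h12]
    have : Nat.beq (pc m) 12 = false := by
      cases hb : Nat.beq (pc m) 12
      · rfl
      · exact absurd (Nat.eq_of_beq_eq_true hb) h12
    rw [this]; rfl

end Cfsg.Agent.Lib.Helper95.NS23
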