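import Cfsg.Agent.Lib.Helper95.NS23SURJ

/-!
# Piece KER of the S2650 farm (helper7): the annihilator of `C0`
-/

set_option autoImplicit false

namespace Cfsg.Agent.Lib.Helper95.NS23

open Cfsg Cfsg.Agent.Lib.Helper27 Cfsg.Agent.Lib.Helper7.NS23

theorem enc_mod_4096 (k : ℕ) : enc k % 4096 = k % 4096 := by
  unfold enc
  show ((k &&& 4095) ||| ((_ &&& 4095) <<< 12)) % 2 ^ 12 = k % 2 ^ 12
  rw [Nat.or_mod_two_pow, Nat.shiftLeft_eq, Nat.mul_mod_left, Nat.or_zero,
    Nat.and_two_pow_sub_one_eq_mod k 12, Nat.mod_mod]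

theorem single_none_eq : (Pi.single none 1 : Wd) = wordOf (2 ^ 23) := by
  funext p; revert p; decide +kernel

theorem add_self_wd (x : Wd) : x + x = 0 := by
  funext p
  exact zmod2_add_self (x p)

/-- the brute-force check -/
def kerCheck (v : ℕ) : Bool :=
  Bool.rec true
    (Bool.rec (isCode (Nat.xor (Nat.mul 4096 v) 8388608)) true (Nat.beq v 0))
    (allBelow (fun k => Nat.beq (Nat.mod (pc (Nat.land (Nat.mul 4096 v) (Bm k))) 2) 0) 11)

theorem kerCheck_all : allBelow kerCheck 4096 = true := by decide +kernel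

theorem ker_aux {v : ℕ} (hv : v < 4096)
    (h : ∀ k < 11, pc ((4096 * v) &&& Bm k) % 2 = 0) :
    v = 0 ∨ isCode ((4096 * v) ^^^ 2 ^ 23) = true := by
  have h1 := (allBelow_iff _ _).1 kerCheck_all v hv
  have h2 : allBelow (fun k => Nat.beq (Nat.mod (pc (Nat.land (Nat.mul 4096 v) (Bm k))) 2) 0) 11
      = true := by
    rw [allBelow_iff]
    intro k hk
    have := h k hk
    exact (Nat.beq_eq ..).symm ▸ this
  unfold kerCheck at h1
  rw [h2] at h1
  cases hb : Nat.beq v 0
  · rw [hb] at h1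
    exact Or.inr h1
  · exact Or.inl (Nat.eq_of_beq_eq_true hb)

theorem ker_iff (w : Wd) :
    (∀ x ∈ C0, dot w x = 0) ↔ (w ∈ golayCode ∨ w + Pi.single none 1 ∈ golayCode) := by
  constructor
  · intro h
    obtain ⟨m, hm, rfl⟩ := exists_mask w
    have hu0 : (m ^^^ enc m) % 4096 = 0 := by
      show (m ^^^ enc m) % 2 ^ 12 = 0
      rw [Nat.xor_mod_two_pow]
      show (m % 4096) ^^^ (enc m % 4096) = 0
      rw [enc_mod_4096, Nat.xor_self]
    have hult : m ^^^ enc m < 2 ^ 24 := Nat.xor_lt_two_pow hm (enc_lt m)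
    obtain ⟨v, hv⟩ : ∃ v, m ^^^ enc m = 4096 * v := ⟨_, (Nat.mul_div_cancel' (Nat.dvd_of_mod_eq_zero hu0)).symm⟩
    have hv' : v < 4096 := by
      rw [hv] at hult
      omega
    have hk : ∀ k < 11, pc ((4096 * v) &&& Bm k) % 2 = 0 := by
      intro k hk
      have h1 : dot (wordOf (m ^^^ enc m)) (bw k) = 0 := by
        rw [wordOf_xor, dot_add_left, h _ (bw_mem_C0 hk), dot_bw (wordOf_enc_mem m) hk, add_zero]
      rw [hv, bw, dot_wordOf, ZMod.natCast_eq_zero_iff] at h1
      exact Nat.mod_eq_zero_of_dvd h1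
    have hme : m = enc m ^^^ (4096 * v) := by
      rw [← hv, Nat.xor_comm m, ← Nat.xor_assoc, Nat.xor_self, Nat.zero_xor]
    rcases ker_aux hv' hk with rfl | hc
    · left
      rw [hme, Nat.mul_zero, Nat.xor_zero]
      exact wordOf_enc_mem m
    · right
      rw [single_none_eq, ← wordOf_xor]
      have h3 : m ^^^ 2 ^ 23 = enc m ^^^ ((4096 * v) ^^^ 2 ^ 23) := by
        rw [← Nat.xor_assoc, ← hme]
      rw [h3]
      have h4 := isCode_xor (isCode_enc m) hc
      exact (wordOf_mem_iff (isCode_lt h4)).2 h4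
  · rintro (h | h) x hx
    · exact dot_eq_zero h hx
    · have e : w = (w + Pi.single none 1) + Pi.single none 1 := by
        rw [add_assoc, add_self_wd, add_zero]
      rw [e, dot_add_left, dot_eq_zero h hx, dot_single, zero_add]
      exact hx.2

end Cfsg.Agent.Lib.Helper95.NS23
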