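/-
Helper library (helper95): piece Q5 of helper49's P1 farm (S1383, Bender-Glauberman 15.7, K ≠ 1):
an abelian group of odd order acting on a nonabelian group of order `p³` and exponent `p` with all
fixed points in the centre has order dividing `p - 1` or `p + 1`.
-/
import Mathlib

set_option autoImplicit false
set_option linter.unusedSectionVars false

namespace Cfsg.Agent.Lib.Helper95.P1

open Subgroup
open scoped Pointwise

/-- A group acting freely on an invariant subset: the order divides the size. -/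
theorem dvd_card_of_free {K X : Type*} [Group K] [MulAction K X] (S : Set X)
    (hS : ∀ k : K, ∀ x ∈ S, k • x ∈ S) (hfree : ∀ k : K, ∀ x ∈ S, k • x = x → k = 1) :
    Nat.card K ∣ Nat.card S := by
  let T : SubMulAction K X := ⟨S, fun k x hx => hS k x hx⟩
  have hst : ∀ b : T, MulAction.stabilizer K b = ⊥ := by
    intro b
    rw [eq_bot_iff]
    intro k hk
    rw [MulAction.mem_stabilizer_iff] at hk
    rw [Subgroup.mem_bot]
    exact hfree k b.1 b.2 (congrArg Subtype.val hk)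
  have e := MulAction.selfEquivOrbitsQuotientProd hst
  have h1 : Nat.card T = Nat.card (Quotient (MulAction.orbitRel K T)) * Nat.card K := by
    rw [Nat.card_congr e, Nat.card_prod]
  have h2 : Nat.card S = Nat.card T := rfl
  rw [h2, h1]
  exact Dvd.intro_left _ rfl

/-- counting by fibres of constant size. -/
theorem card_eq_mul_of_fiber {α β : Type*} [Finite α] [Finite β] (f : α → β) (n : ℕ)
    (h : ∀ b, Nat.card {a // f a = b} = n) : Nat.card α = Nat.card β * n := by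
  classical
  have := Fintype.ofFinite β
  rw [← Nat.card_congr (Equiv.sigmaFiberEquiv f), Nat.card_sigma]
  simp [h]

variable {G : Type*} [Group G]

theorem card_diff [Finite G] {A B : Subgroup G} (hBA : B ≤ A) :
    Nat.card ↥((A : Set G) \ (B : Set G)) = Nat.card A - Nat.card B := by
  rw [Nat.card_coe_set_eq, Set.ncard_sdiff (by exact_mod_cast hBA) (Set.toFinite _)]
  rfl

theorem mem_sup_zpowers {Z : Subgroup G} {w : G} (hc : ∀ z ∈ Z, z * w = w * z) {x : G}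
    (hx : x ∈ Z ⊔ zpowers w) : ∃ z ∈ Z, ∃ a : ℤ, x = z * w ^ a := by
  have hc' : ∀ z ∈ Z, ∀ a : ℤ, Commute z (w ^ a) := fun z hz a =>
    (show Commute z w from hc z hz).zpow_right a
  rw [sup_eq_closure] at hx
  induction hx using closure_induction with
  | mem x hx =>
    rcases hx with hx | hx
    · exact ⟨x, hx, 0, by simp⟩
    · obtain ⟨a, rfl⟩ := mem_zpowers_iff.mp hx
      exact ⟨1, Z.one_mem, a, by simp⟩
  | one => exact ⟨1, Z.one_mem, 0, by simp⟩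
  | mul x y _ _ hx hy =>
    obtain ⟨z, hz, a, rfl⟩ := hx
    obtain ⟨z', hz', b, rfl⟩ := hy
    refine ⟨z * z', Z.mul_mem hz hz', a + b, ?_⟩
    rw [zpow_add, mul_assoc, ← mul_assoc (w ^ a), ← (hc' z' hz' a).eq]
    simp only [mul_assoc]
  | inv x _ hx =>
    obtain ⟨z, hz, a, rfl⟩ := hx
    refine ⟨z⁻¹, Z.inv_mem hz, -a, ?_⟩
    rw [mul_inv_rev, zpow_neg, ((hc' z hz a).inv_inv).eq]

theorem conj_smul_eq_iff (g : G) (A : Subgroup G) :
    MulAut.conj g • A = A ↔ g ∈ normalizer (A : Set G) := by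
  rw [mem_normalizer_iff]
  constructor
  · intro h x
    conv_rhs => rw [← h]
    rw [← MulAut.conj_apply, ← MulAut.smul_def, smul_mem_pointwise_smul_iff]
  · intro h
    ext x
    rw [mem_pointwise_smul_iff_inv_smul_mem, h, ← MulAut.conj_apply, ← MulAut.smul_def,
      smul_inv_smul]

/-- the commutator `w y w⁻¹ y⁻¹`. -/
def cm (w y : G) : G := w * y * w⁻¹ * y⁻¹

theorem cm_inv (w y : G) : (cm w y)⁻¹ = cm y w := by simp [cm, mul_assoc]

theorem cm_conj (k w y : G) : k * cm w y * k⁻¹ = cm (k * w * k⁻¹) (k * y * k⁻¹) := by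
  simp [cm, mul_assoc]

/-- the hypotheses of Q5. -/
structure Hyp (p : ℕ) (K Z₀ W : Subgroup G) : Prop where
  hKc : IsMulCommutative K
  hKodd : Odd (Nat.card K)
  hKp : (Nat.card K).Coprime p
  hZ₀ : Nat.card Z₀ = p
  hZ₀W : Z₀ ≤ W
  hZ₀c : Z₀ ≤ centralizer (W : Set G)
  hKW : K ≤ normalizer (W : Set G)
  hW3 : Nat.card W = p ^ 3
  hWna : ¬ IsMulCommutative W
  hpow : ∀ w ∈ W, w ^ p = 1
  hcomm : ∀ w ∈ W, ∀ y ∈ W, w * y * w⁻¹ * y⁻¹ ∈ Z₀
  hfix : ∀ k ∈ K, k ≠ 1 → W ⊓ centralizer ({k} : Set G) = Z₀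

/-- the subgroups of order `p²` between `Z₀` and `W`. -/
def LL (p : ℕ) (Z₀ W : Subgroup G) : Set (Subgroup G) :=
  {A | Z₀ ≤ A ∧ A ≤ W ∧ Nat.card A = p ^ 2}

namespace Hyp

variable [Finite G] {p : ℕ} [Fact p.Prime] {K Z₀ W : Subgroup G}

theorem zc (h : Hyp p K Z₀ W) {z w : G} (hz : z ∈ Z₀) (hw : w ∈ W) : z * w = w * z :=
  (mem_centralizer_iff.mp (h.hZ₀c hz) w hw).symm

theorem kz (h : Hyp p K Z₀ W) {k z : G} (hk : k ∈ K) (hz : z ∈ Z₀) : k * z * k⁻¹ = z := by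
  by_cases hk1 : k = 1
  · simp [hk1]
  · have h1 : z ∈ W ⊓ centralizer ({k} : Set G) := by rw [h.hfix k hk hk1]; exact hz
    have h2 := mem_centralizer_singleton_iff.mp h1.2
    rw [← h2]; simp

theorem not_le (h : Hyp p K Z₀ W) : ¬ W ≤ centralizer (W : Set G) := fun hle =>
  h.hWna (le_centralizer_iff_isMulCommutative.mp hle)

theorem card_sub (h : Hyp p K Z₀ W) {H : Subgroup G} (hH : H ≤ W) :
    ∃ m ≤ 3, Nat.card H = p ^ m := by
  have h1 := Subgroup.card_dvd_of_le hH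
  rw [h.hW3] at h1
  exact (Nat.dvd_prime_pow Fact.out).mp h1

theorem abel_of_gen (h : Hyp p K Z₀ W) {w w' : G} (hw : w ∈ W) (hw' : w' ∈ W)
    (hc : w * w' = w' * w) (hgen : W ≤ Z₀ ⊔ zpowers w ⊔ zpowers w') : False := by
  have h1 : W ≤ centralizer ({w} : Set G) := by
    refine hgen.trans (sup_le (sup_le ?_ ?_) ?_)
    · intro z hz
      exact mem_centralizer_singleton_iff.mpr (h.zc hz hw)
    · rw [zpowers_le]; exact mem_centralizer_singleton_iff.mpr rfl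
    · rw [zpowers_le]; exact mem_centralizer_singleton_iff.mpr hc.symm
  have h2 : W ≤ centralizer ({w'} : Set G) := by
    refine hgen.trans (sup_le (sup_le ?_ ?_) ?_)
    · intro z hz
      exact mem_centralizer_singleton_iff.mpr (h.zc hz hw')
    · rw [zpowers_le]; exact mem_centralizer_singleton_iff.mpr hc
    · rw [zpowers_le]; exact mem_centralizer_singleton_iff.mpr rfl
  apply h.not_le
  refine hgen.trans (sup_le (sup_le h.hZ₀c ?_) ?_)
  · rw [zpowers_le, mem_centralizer_iff]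
    intro y hy
    exact mem_centralizer_singleton_iff.mp (h1 hy)
  · rw [zpowers_le, mem_centralizer_iff]
    intro y hy
    exact mem_centralizer_singleton_iff.mp (h2 hy)

theorem sup_mem_LL (h : Hyp p K Z₀ W) {w : G} (hw : w ∈ W) (hwZ : w ∉ Z₀) :
    Z₀ ⊔ zpowers w ∈ LL p Z₀ W := by
  have hpp : p.Prime := Fact.out
  have hle : Z₀ ⊔ zpowers w ≤ W := sup_le h.hZ₀W (zpowers_le.mpr hw)
  refine ⟨le_sup_left, hle, ?_⟩
  obtain ⟨m, hm, hc⟩ := h.card_sub hle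
  have hlt : p < Nat.card ↥(Z₀ ⊔ zpowers w) := by
    by_contra hcon
    rw [not_lt, ← h.hZ₀] at hcon
    have := Subgroup.eq_of_le_of_card_ge (le_sup_left : Z₀ ≤ Z₀ ⊔ zpowers w) hcon
    apply hwZ
    rw [this]
    exact le_sup_right (a := Z₀) (mem_zpowers w)
  have hne : Nat.card ↥(Z₀ ⊔ zpowers w) ≠ p ^ 3 := by
    intro hcon
    have := Subgroup.eq_of_le_of_card_ge hle (by rw [hcon, h.hW3])
    refine h.abel_of_gen hw hw rfl ?_
    rw [← this]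
    exact le_sup_left
  rw [hc] at hlt hne ⊢
  interval_cases m
  · simp at hlt; have := hpp.pos; omega
  · simp at hlt
  · rfl
  · exact absurd rfl hne

theorem eq_sup_of_mem (h : Hyp p K Z₀ W) {A : Subgroup G} (hA : A ∈ LL p Z₀ W) {w : G}
    (hw : w ∈ A) (hwZ : w ∉ Z₀) : Z₀ ⊔ zpowers w = A := by
  have h1 := h.sup_mem_LL (hA.2.1 hw) hwZ
  exact Subgroup.eq_of_le_of_card_ge (sup_le hA.1 (zpowers_le.mpr hw)) (by rw [h1.2.2, hA.2.2])

theorem exists_mem (h : Hyp p K Z₀ W) {A : Subgroup G} (hA : A ∈ LL p Z₀ W) :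
    ∃ w ∈ A, w ∉ Z₀ := by
  have hpp : p.Prime := Fact.out
  by_contra hcon
  push Not at hcon
  have h1 := Subgroup.card_le_of_le (show A ≤ Z₀ from hcon)
  rw [hA.2.2, h.hZ₀] at h1
  have := hpp.two_le
  nlinarith

theorem not_comm (h : Hyp p K Z₀ W) {A A' : Subgroup G} (hA : A ∈ LL p Z₀ W)
    (hA' : A' ∈ LL p Z₀ W) (hne : A ≠ A') {w w' : G} (hw : w ∈ A) (hwZ : w ∉ Z₀)
    (hw' : w' ∈ A') (hwZ' : w' ∉ Z₀) : cm w w' ≠ 1 := by
  have hpp : p.Prime := Fact.out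
  intro hc
  have hc' : w * w' = w' * w := by
    have : w * w' * w⁻¹ * w'⁻¹ = 1 := hc
    rw [mul_inv_eq_one, mul_inv_eq_iff_eq_mul] at this
    exact this
  have hle : A ⊔ A' ≤ W := sup_le hA.2.1 hA'.2.1
  obtain ⟨m, hm, hcard⟩ := h.card_sub hle
  have hlt : p ^ 2 < Nat.card ↥(A ⊔ A') := by
    by_contra hcon
    rw [not_lt, ← hA.2.2] at hcon
    have h1 := Subgroup.eq_of_le_of_card_ge (le_sup_left : A ≤ A ⊔ A') hcon
    have h2 : A' ≤ A := by rw [h1]; exact le_sup_right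
    exact hne (Subgroup.eq_of_le_of_card_ge h2 (by rw [hA.2.2, hA'.2.2])).symm
  have hm3 : m = 3 := by
    rw [hcard] at hlt
    have := (Nat.pow_lt_pow_iff_right hpp.one_lt).mp hlt
    omega
  subst hm3
  have hW : A ⊔ A' = W := Subgroup.eq_of_le_of_card_ge hle (by rw [hcard, h.hW3])
  refine h.abel_of_gen (hA.2.1 hw) (hA'.2.1 hw') hc' ?_
  rw [← hW, ← h.eq_sup_of_mem hA hw hwZ, ← h.eq_sup_of_mem hA' hw' hwZ']
  refine sup_le le_sup_left (sup_le ?_ le_sup_right)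
  exact le_sup_left.trans le_sup_left

theorem nat_aux {p n : ℕ} (hp : 2 ≤ p) (h : p ^ 3 - p = n * (p ^ 2 - p)) : n = p + 1 := by
  obtain ⟨q, rfl⟩ := Nat.exists_eq_add_of_le hp
  have e1 : (2 + q) ^ 2 - (2 + q) = (2 + q) * (1 + q) := by
    apply Nat.sub_eq_of_eq_add; ring
  have e2 : (2 + q) ^ 3 - (2 + q) = (2 + q + 1) * ((2 + q) * (1 + q)) := by
    apply Nat.sub_eq_of_eq_add; ring
  rw [e1, e2] at h
  exact (Nat.eq_of_mul_eq_mul_right (by positivity) h).symm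

theorem card_LL (h : Hyp p K Z₀ W) : Nat.card (LL p Z₀ W) = p + 1 := by
  have hpp : p.Prime := Fact.out
  let f : ↥((W : Set G) \ (Z₀ : Set G)) → LL p Z₀ W := fun w =>
    ⟨Z₀ ⊔ zpowers w.1, h.sup_mem_LL w.2.1 w.2.2⟩
  have hf : ∀ A : LL p Z₀ W, Nat.card {a // f a = A} = p ^ 2 - p := by
    intro A
    have e : {a // f a = A} ≃ ↥(((A : Subgroup G) : Set G) \ (Z₀ : Set G)) :=
      { toFun := fun a => ⟨a.1.1, by
          have h1 : Z₀ ⊔ zpowers a.1.1 = A.1 := congrArg Subtype.val a.2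
          refine ⟨?_, a.1.2.2⟩
          rw [SetLike.mem_coe, ← h1]
          exact le_sup_right (a := Z₀) (mem_zpowers _)⟩
        invFun := fun w => ⟨⟨w.1, A.2.2.1 w.2.1, w.2.2⟩,
          Subtype.ext (h.eq_sup_of_mem A.2 w.2.1 w.2.2)⟩
        left_inv := fun a => rfl
        right_inv := fun w => rfl }
    rw [Nat.card_congr e, card_diff A.2.1, A.2.2.2, h.hZ₀]
  have h1 := card_eq_mul_of_fiber f _ hf
  rw [card_diff h.hZ₀W, h.hW3, h.hZ₀] at h1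
  exact nat_aux hpp.two_le h1

theorem cm_mem (h : Hyp p K Z₀ W) {w y : G} (hw : w ∈ W) (hy : y ∈ W) : cm w y ∈ Z₀ :=
  h.hcomm w hw y hy

theorem cm_mul_left (h : Hyp p K Z₀ W) {w w' y : G} (hw : w ∈ W) (hw' : w' ∈ W) (hy : y ∈ W) :
    cm (w * w') y = cm w y * cm w' y := by
  have h1 : cm w' y * w⁻¹ = w⁻¹ * cm w' y := h.zc (h.cm_mem hw' hy) (W.inv_mem hw)
  have h2 : cm w' y * y⁻¹ = y⁻¹ * cm w' y := h.zc (h.cm_mem hw' hy) (W.inv_mem hy)
  calc cm (w * w') y = w * (cm w' y * y) * w⁻¹ * y⁻¹ := by simp [cm, mul_assoc]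
    _ = w * (y * cm w' y) * w⁻¹ * y⁻¹ := by rw [h.zc (h.cm_mem hw' hy) hy]
    _ = w * y * (cm w' y * w⁻¹) * y⁻¹ := by simp only [mul_assoc]
    _ = w * y * w⁻¹ * (cm w' y * y⁻¹) := by rw [h1]; simp only [mul_assoc]
    _ = cm w y * cm w' y := by rw [h2]; simp only [cm, mul_assoc]

/-- `w ↦ [w, y]` as a homomorphism. -/
def cHom (h : Hyp p K Z₀ W) {y : G} (hy : y ∈ W) : W →* G :=
  MonoidHom.mk' (fun w => cm w.1 y) (fun a b => h.cm_mul_left a.2 b.2 hy)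

theorem cm_zpow_left (h : Hyp p K Z₀ W) {w y : G} (hw : w ∈ W) (hy : y ∈ W) (a : ℤ) :
    cm (w ^ a) y = cm w y ^ a :=
  map_zpow (h.cHom hy) ⟨w, hw⟩ a

theorem cm_z_left (h : Hyp p K Z₀ W) {z y : G} (hz : z ∈ Z₀) (hy : y ∈ W) : cm z y = 1 := by
  unfold cm
  rw [h.zc hz hy]; simp

theorem cm_left (h : Hyp p K Z₀ W) {z w y : G} (hz : z ∈ Z₀) (hw : w ∈ W) (hy : y ∈ W) (a : ℤ) :
    cm (z * w ^ a) y = cm w y ^ a := by
  rw [h.cm_mul_left (h.hZ₀W hz) (W.zpow_mem hw a) hy, h.cm_z_left hz hy, one_mul,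
    h.cm_zpow_left hw hy]

theorem cm_right (h : Hyp p K Z₀ W) {z w y : G} (hz : z ∈ Z₀) (hw : w ∈ W) (hy : y ∈ W) (a : ℤ) :
    cm w (z * y ^ a) = cm w y ^ a := by
  rw [← cm_inv, h.cm_left hz hy hw, ← inv_zpow, cm_inv]

theorem prod_dvd (h : Hyp p K Z₀ W) {k : G} (hk : k ∈ K) {w w' : G} (hw : w ∈ W) (hw' : w' ∈ W)
    (hne : cm w w' ≠ 1) {z z' : G} {a b : ℤ} (hz : z ∈ Z₀) (hz' : z' ∈ Z₀)
    (e : k * w * k⁻¹ = z * w ^ a) (e' : k * w' * k⁻¹ = z' * w' ^ b) : (p : ℤ) ∣ a * b - 1 := by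
  have h1 : k * cm w w' * k⁻¹ = cm w w' := h.kz hk (h.cm_mem hw hw')
  rw [cm_conj, e, e', h.cm_left hz hw (W.mul_mem (h.hZ₀W hz') (W.zpow_mem hw' b)),
    h.cm_right hz' hw hw', ← zpow_mul] at h1
  have h2 : orderOf (cm w w') = p :=
    orderOf_eq_prime (h.hpow _ (h.hZ₀W (h.cm_mem hw hw'))) hne
  rw [← h2, orderOf_dvd_iff_zpow_eq_one, zpow_sub, zpow_one, mul_comm a b, h1]
  simp

theorem fix_mod (h : Hyp p K Z₀ W) {g : G} (hg : g ∈ K) (hg1 : g ≠ 1) {w : G} (hw : w ∈ W)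
    {z : G} (hz : z ∈ Z₀) (e : g * w * g⁻¹ = z * w) : w ∈ Z₀ := by
  have hind : ∀ m : ℕ, g ^ m * w * (g ^ m)⁻¹ = z ^ m * w := by
    intro m
    induction m with
    | zero => simp
    | succ m ih =>
      calc g ^ (m + 1) * w * (g ^ (m + 1))⁻¹ = g * (g ^ m * w * (g ^ m)⁻¹) * g⁻¹ := by
            rw [pow_succ']; simp only [mul_inv_rev, mul_assoc]
        _ = (g * z ^ m * g⁻¹) * (g * w * g⁻¹) := by rw [ih]; simp only [mul_assoc, inv_mul_cancel_left]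
        _ = z ^ (m + 1) * w := by
            rw [h.kz hg (Z₀.pow_mem hz m), e, pow_succ, mul_assoc]
  have h1 := hind (orderOf g)
  rw [pow_orderOf_eq_one] at h1
  have h2 : z ^ orderOf g = 1 := by
    have : z ^ orderOf g * w = 1 * w := by rw [← h1]; simp
    exact mul_right_cancel this
  have h3 : z ^ p = 1 := h.hpow z (h.hZ₀W hz)
  have h4 : (orderOf g).Coprime p :=
    Nat.Coprime.coprime_dvd_left (Subgroup.orderOf_dvd_natCard K hg) h.hKp
  have h5 : z = 1 := by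
    have := Nat.eq_one_of_dvd_coprimes h4 (orderOf_dvd_of_pow_eq_one h2)
      (orderOf_dvd_of_pow_eq_one h3)
    exact orderOf_eq_one_iff.mp this
  rw [h5, one_mul] at e
  rw [← h.hfix g hg hg1]
  refine ⟨hw, mem_centralizer_singleton_iff.mpr ?_⟩
  rw [mul_inv_eq_iff_eq_mul] at e
  exact e.symm

theorem sq_ne_one (h : Hyp p K Z₀ W) {k : G} (hk : k ∈ K) (hk1 : k ≠ 1) : k * k ≠ 1 := by
  intro hcon
  have h1 : orderOf k ∣ 2 := orderOf_dvd_of_pow_eq_one (by rw [sq]; exact hcon)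
  have h2 : orderOf k ∣ Nat.card K := Subgroup.orderOf_dvd_natCard K hk
  have h3 : (Nat.card K).Coprime 2 := (Nat.coprime_two_right).mpr h.hKodd
  exact hk1 (orderOf_eq_one_iff.mp (Nat.eq_one_of_dvd_coprimes h3 h2 h1))

theorem conj_form (h : Hyp p K Z₀ W) {k : G} {A : Subgroup G} (hA : A ∈ LL p Z₀ W)
    (hn : k ∈ normalizer (A : Set G)) {w : G} (hw : w ∈ A) (hwZ : w ∉ Z₀) :
    ∃ z ∈ Z₀, ∃ a : ℤ, k * w * k⁻¹ = z * w ^ a := by
  have h1 : k * w * k⁻¹ ∈ A := (mem_normalizer_iff.mp hn w).mp hw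
  rw [← h.eq_sup_of_mem hA hw hwZ] at h1
  exact mem_sup_zpowers (fun z hz => h.zc hz (hA.2.1 hw)) h1

theorem three (h : Hyp p K Z₀ W) {k : G} (hk : k ∈ K) (hk1 : k ≠ 1) {A₁ A₂ A₃ : Subgroup G}
    (hA₁ : A₁ ∈ LL p Z₀ W) (hA₂ : A₂ ∈ LL p Z₀ W) (hA₃ : A₃ ∈ LL p Z₀ W)
    (hn₁ : k ∈ normalizer (A₁ : Set G)) (hn₂ : k ∈ normalizer (A₂ : Set G))
    (hn₃ : k ∈ normalizer (A₃ : Set G)) (h12 : A₁ ≠ A₂) (h13 : A₁ ≠ A₃) (h23 : A₂ ≠ A₃) :
    False := by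
  obtain ⟨w₁, hw₁, hwZ₁⟩ := h.exists_mem hA₁
  obtain ⟨w₂, hw₂, hwZ₂⟩ := h.exists_mem hA₂
  obtain ⟨w₃, hw₃, hwZ₃⟩ := h.exists_mem hA₃
  obtain ⟨z₁, hz₁, a₁, e₁⟩ := h.conj_form hA₁ hn₁ hw₁ hwZ₁
  obtain ⟨z₂, hz₂, a₂, e₂⟩ := h.conj_form hA₂ hn₂ hw₂ hwZ₂
  obtain ⟨z₃, hz₃, a₃, e₃⟩ := h.conj_form hA₃ hn₃ hw₃ hwZ₃
  have hW₁ := hA₁.2.1 hw₁
  have hW₂ := hA₂.2.1 hw₂
  have hW₃ := hA₃.2.1 hw₃
  obtain ⟨c12, d12⟩ := h.prod_dvd hk hW₁ hW₂ (h.not_comm hA₁ hA₂ h12 hw₁ hwZ₁ hw₂ hwZ₂) hz₁ hz₂ e₁ e₂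
  obtain ⟨c13, d13⟩ := h.prod_dvd hk hW₁ hW₃ (h.not_comm hA₁ hA₃ h13 hw₁ hwZ₁ hw₃ hwZ₃) hz₁ hz₃ e₁ e₃
  obtain ⟨c23, d23⟩ := h.prod_dvd hk hW₂ hW₃ (h.not_comm hA₂ hA₃ h23 hw₂ hwZ₂ hw₃ hwZ₃) hz₂ hz₃ e₂ e₃
  have hd : (p : ℤ) ∣ a₁ * a₁ - 1 :=
    ⟨-(a₁ * a₁) * c23 + c12 * (a₁ * a₃) + c13, by
      linear_combination (-(a₁ * a₁)) * d23 + (a₁ * a₃) * d12 + d13⟩
  have hw1 : w₁ ^ (a₁ * a₁) = w₁ := by
    obtain ⟨c, hc⟩ := hd
    have : a₁ * a₁ = p * c + 1 := by linarith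
    rw [this, zpow_add, zpow_one, zpow_mul, zpow_natCast, h.hpow w₁ hW₁, one_zpow, one_mul]
  have hcz : Commute z₁ (w₁ ^ a₁) := h.zc hz₁ (W.zpow_mem hW₁ a₁)
  have e : (k * k) * w₁ * (k * k)⁻¹ = (z₁ * z₁ ^ a₁) * w₁ := by
    calc (k * k) * w₁ * (k * k)⁻¹ = k * (k * w₁ * k⁻¹) * k⁻¹ := by
          simp only [mul_inv_rev, mul_assoc]
      _ = (k * z₁ * k⁻¹) * (k * w₁ ^ a₁ * k⁻¹) := by
          rw [e₁]; simp only [mul_assoc, inv_mul_cancel_left]
      _ = (z₁ * z₁ ^ a₁) * w₁ := by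
          rw [h.kz hk hz₁, ← conj_zpow, e₁, hcz.mul_zpow, ← zpow_mul, hw1, mul_assoc]
  exact hwZ₁ (h.fix_mod (K.mul_mem hk hk) (h.sq_ne_one hk hk1) hW₁
    (Z₀.mul_mem hz₁ (Z₀.zpow_mem hz₁ a₁)) e)

theorem smul_Z (h : Hyp p K Z₀ W) {g : G} (hg : g ∈ K) : MulAut.conj g • Z₀ = Z₀ := by
  rw [conj_smul_eq_iff, mem_normalizer_iff]
  intro x
  constructor
  · intro hx; rw [h.kz hg hx]; exact hx
  · intro hx
    have h1 := h.kz (K.inv_mem hg) hx
    rw [inv_inv] at h1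
    have h2 : g⁻¹ * (g * x * g⁻¹) * g = x := by simp [mul_assoc]
    rw [h2] at h1
    rw [h1]; exact hx

theorem smul_mem_LL (h : Hyp p K Z₀ W) {g : G} (hg : g ∈ K) {A : Subgroup G}
    (hA : A ∈ LL p Z₀ W) : MulAut.conj g • A ∈ LL p Z₀ W := by
  refine ⟨?_, ?_, ?_⟩
  · conv_lhs => rw [← h.smul_Z hg]
    exact pointwise_smul_le_pointwise_smul_iff.mpr hA.1
  · conv_rhs => rw [← (conj_smul_eq_iff g W).mpr (h.hKW hg)]
    exact pointwise_smul_le_pointwise_smul_iff.mpr hA.2.1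
  · rw [← hA.2.2]
    exact (Nat.card_congr (Subgroup.equivSMul (MulAut.conj g) A).toEquiv).symm

theorem norm_all (h : Hyp p K Z₀ W) {k : G} (hk : k ∈ K) (hk1 : k ≠ 1) {A : Subgroup G}
    (hA : A ∈ LL p Z₀ W) (hn : k ∈ normalizer (A : Set G)) : K ≤ normalizer (A : Set G) := by
  intro g hg
  have hkg : ∀ g ∈ K, k * g = g * k := by
    intro g hg
    have := h.hKc.is_comm.comm ⟨k, hk⟩ ⟨g, hg⟩
    exact congrArg Subtype.val this
  have hnn : ∀ g ∈ K, k ∈ normalizer ((MulAut.conj g • A : Subgroup G) : Set G) := by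
    intro g hg
    rw [← conj_smul_eq_iff, smul_smul, ← map_mul, hkg g hg, map_mul, ← smul_smul,
      (conj_smul_eq_iff k A).mpr hn]
  have hgg := K.mul_mem hg hg
  by_contra hcon
  have h12 : A ≠ MulAut.conj g • A := fun e => hcon ((conj_smul_eq_iff g A).mp e.symm)
  have h23 : MulAut.conj g • A ≠ MulAut.conj (g * g) • A := by
    intro e
    rw [map_mul, ← smul_smul] at e
    exact h12 (smul_left_cancel _ e)
  have h13 : A ≠ MulAut.conj (g * g) • A := by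
    intro e
    have h1 : g * g ∈ normalizer (A : Set G) := (conj_smul_eq_iff _ A).mp e.symm
    have hodd : Odd (orderOf g) := Odd.of_dvd_nat h.hKodd (Subgroup.orderOf_dvd_natCard K hg)
    obtain ⟨m, hm⟩ := hodd
    have h2 : (g * g) ^ (m + 1) = g := by
      rw [← sq, ← pow_mul]
      have : 2 * (m + 1) = orderOf g + 1 := by omega
      rw [this, pow_succ, pow_orderOf_eq_one, one_mul]
    apply hcon
    rw [← h2]
    exact pow_mem h1 _
  exact h.three hk hk1 hA (h.smul_mem_LL hg hA) (h.smul_mem_LL hgg hA) hn (hnn g hg)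
    (hnn _ hgg) h12 h13 h23

theorem main (h : Hyp p K Z₀ W) : Nat.card K ∣ p - 1 ∨ Nat.card K ∣ p + 1 := by
  have hpp : p.Prime := Fact.out
  by_cases hex : ∃ k ∈ K, k ≠ 1 ∧ ∃ A ∈ LL p Z₀ W, k ∈ normalizer (A : Set G)
  · left
    obtain ⟨k, hk, hk1, A, hA, hn⟩ := hex
    have hKA := h.norm_all hk hk1 hA hn
    letI : MulAction K G := MulAction.compHom G ((MulAut.conj (G := G)).comp K.subtype)
    have hsm : ∀ (g : K) (x : G), g • x = (g : G) * x * (g : G)⁻¹ := fun g x => rfl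
    have h1 : Nat.card K ∣ Nat.card ↥((A : Set G) \ (Z₀ : Set G)) := by
      apply dvd_card_of_free
      · intro g x hx
        rw [hsm]
        refine ⟨(mem_normalizer_iff.mp (hKA g.2) x).mp hx.1, fun hcon => hx.2 ?_⟩
        have := (mem_normalizer_iff.mp ((conj_smul_eq_iff _ _).mp (h.smul_Z g.2)) x).mpr hcon
        exact this
      · intro g x hx hgx
        rw [hsm] at hgx
        by_contra hg1
        have hg1' : (g : G) ≠ 1 := fun e => hg1 (Subtype.ext e)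
        apply hx.2
        rw [SetLike.mem_coe, ← h.hfix g g.2 hg1']
        refine ⟨hA.2.1 hx.1, mem_centralizer_singleton_iff.mpr ?_⟩
        rw [mul_inv_eq_iff_eq_mul] at hgx
        exact hgx.symm
    rw [card_diff hA.1, hA.2.2, h.hZ₀] at h1
    have h' : p ^ 2 - p = p * (p - 1) := by
      rw [Nat.mul_sub, mul_one, sq]
    rw [h'] at h1
    exact h.hKp.dvd_of_dvd_mul_left h1
  · right
    push Not at hex
    letI : MulAction K (Subgroup G) :=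
      MulAction.compHom (Subgroup G) ((MulAut.conj (G := G)).comp K.subtype)
    have hsm : ∀ (g : K) (A : Subgroup G), g • A = MulAut.conj (g : G) • A := fun g x => rfl
    rw [← h.card_LL]
    apply dvd_card_of_free
    · intro g A hA
      rw [hsm]
      exact h.smul_mem_LL g.2 hA
    · intro g A hA hgA
      rw [hsm, conj_smul_eq_iff] at hgA
      by_contra hg1
      have hg1' : (g : G) ≠ 1 := fun e => hg1 (Subtype.ext e)
      exact hex g g.2 hg1' A hA hgA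

end Hyp

/-- [Q5] an abelian group of odd order acting on a nonabelian group of order `p³` and exponent `p`,
with all fixed points in the centre `Z₀`. -/
theorem card_dvd_of_extraspecial {G : Type*} [Group G] [Finite G] {p : ℕ} [Fact p.Prime]
    (hp2 : p ≠ 2) {K Z₀ W : Subgroup G}
    (hKc : IsMulCommutative K) (hKodd : Odd (Nat.card K)) (hKp : (Nat.card K).Coprime p)
    (hZ₀ : Nat.card Z₀ = p) (hZ₀W : Z₀ ≤ W) (hZ₀c : Z₀ ≤ centralizer (W : Set G))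
    (hKW : K ≤ normalizer (W : Set G)) (hW3 : Nat.card W = p ^ 3) (hWna : ¬ IsMulCommutative W)
    (hpow : ∀ w ∈ W, w ^ p = 1)
    (hcomm : ∀ w ∈ W, ∀ y ∈ W, w * y * w⁻¹ * y⁻¹ ∈ Z₀)
    (hfix : ∀ k ∈ K, k ≠ 1 → W ⊓ centralizer ({k} : Set G) = Z₀) :
    Nat.card K ∣ p - 1 ∨ Nat.card K ∣ p + 1 :=
  Hyp.main ⟨hKc, hKodd, hKp, hZ₀, hZ₀W, hZ₀c, hKW, hW3, hWna, hpow, hcomm, hfix⟩

end Cfsg.Agent.Lib.Helper95.P1
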