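/-
Helper library (helper95): linear algebra part of piece W2 of helper53's Hall-Higman farm (S3787).
-/
import Mathlib

set_option autoImplicit false

namespace Cfsg.Agent.Lib.Helper95.HH

open Module LinearMap

section LA

variable {F V : Type*} [Field F] [AddCommGroup V] [Module F V] [FiniteDimensional F V]

theorem finrank_ker_pow_le (N : Module.End F V) (hk : finrank F (ker N) ≤ 1) (k : ℕ) :
    finrank F (ker (N ^ k)) ≤ k := by
  induction k with
  | zero =>
    have : ker (N ^ 0) = ⊥ := by
      rw [pow_zero]; exact LinearMap.ker_id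
    rw [this]; simp
  | succ k ih =>
    set q := ker (N ^ (k + 1)) with hq
    let f : q →ₗ[F] V := (N ^ k).domRestrict q
    have h1 := LinearMap.finrank_range_add_finrank_ker f
    have h2 : finrank F (range f) ≤ 1 := by
      refine le_trans (Submodule.finrank_mono ?_) hk
      rintro _ ⟨y, rfl⟩
      rw [LinearMap.mem_ker]
      have hy : (N ^ (k + 1)) y.1 = 0 := y.2
      rw [pow_succ', Module.End.mul_apply] at hy
      exact hy
    have hle : ker (N ^ k) ≤ q := by
      intro y hy
      rw [hq, LinearMap.mem_ker, pow_succ', Module.End.mul_apply, LinearMap.mem_ker.mp hy, map_zero]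
    have h3 : finrank F (ker f) = finrank F (ker (N ^ k)) := by
      have : ker f = (ker (N ^ k)).comap q.subtype := by
        ext y
        simp [f]
      rw [this]
      exact LinearEquiv.finrank_eq (Submodule.comapSubtypeEquivOfLe hle)
    omega

theorem finrank_of_block (N : Module.End F V) (p : ℕ) (hp : 1 ≤ p) (h0 : N ^ p = 0)
    (h1 : N ^ (p - 1) ≠ 0) (hk : finrank F (ker N) ≤ 1) : finrank F V = p := by
  apply le_antisymm
  · have h2 := finrank_ker_pow_le N hk p
    rw [h0] at h2
    have : ker (0 : Module.End F V) = ⊤ := LinearMap.ker_zero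
    rw [this, finrank_top] at h2
    exact h2
  · by_contra hcon
    have hlt : finrank F V ≤ p - 1 := by omega
    have h2 := Module.End.ker_pow_le_ker_pow_finrank N p
    rw [h0] at h2
    have h3 : ker (0 : Module.End F V) = ⊤ := LinearMap.ker_zero
    rw [h3, top_le_iff, LinearMap.ker_eq_top] at h2
    apply h1
    obtain ⟨d, hd⟩ := Nat.exists_eq_add_of_le hlt
    rw [hd, pow_add, h2, zero_mul]

end LA

section Block

open Polynomial

theorem poly_id1 (p : ℕ) [Fact p.Prime] : ((X : (ZMod p)[X]) - 1) ^ p = X ^ p - 1 := by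
  rw [sub_pow_char, one_pow]

theorem poly_id2 (p : ℕ) [Fact p.Prime] :
    ((X : (ZMod p)[X]) - 1) ^ (p - 1) = ∑ i ∈ Finset.range p, (X : (ZMod p)[X]) ^ i := by
  have hpos : 0 < p := (Fact.out : p.Prime).pos
  have hne : ((X : (ZMod p)[X]) - 1) ≠ 0 := by
    have := Polynomial.X_sub_C_ne_zero (1 : ZMod p)
    simpa using this
  apply mul_right_cancel₀ hne
  rw [← pow_succ, Nat.sub_add_cancel hpos, poly_id1, geom_sum_mul]

theorem card_of_block_lin {p : ℕ} [Fact p.Prime] {V : Type*} [AddCommGroup V] [Module (ZMod p) V]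
    [Finite V] (T : Module.End (ZMod p) V) (hTp : T ^ p = 1)
    (hfix : Nat.card {y : V // T y = y} ≤ p) (v : V)
    (hv : ∑ i ∈ Finset.range p, (T ^ i) v ≠ 0) : Nat.card V = p ^ p := by
  have hpp : p.Prime := Fact.out
  have e1 := congrArg (Polynomial.aeval T) (poly_id1 p)
  have e2 := congrArg (Polynomial.aeval T) (poly_id2 p)
  simp only [map_pow, map_sub, aeval_X, map_one, map_sum] at e1 e2
  rw [hTp, sub_self] at e1
  have hN1 : (T - 1) ^ (p - 1) ≠ 0 := by
    intro hcon
    rw [hcon] at e2
    have h1 := congrArg (fun f : Module.End (ZMod p) V => f v) e2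
    simp only [LinearMap.zero_apply, LinearMap.sum_apply] at h1
    exact hv h1.symm
  have hker : finrank (ZMod p) (ker (T - 1)) ≤ 1 := by
    have h1 : Nat.card (ker (T - 1)) ≤ Nat.card {y : V // T y = y} := by
      refine Nat.card_le_card_of_injective
        (fun y => ⟨y.1, ?_⟩) ?_
      · have h2 : (T - 1) y.1 = 0 := y.2
        rw [LinearMap.sub_apply, Module.End.one_apply, sub_eq_zero] at h2
        exact h2
      · intro y y' h
        apply Subtype.ext
        exact congrArg (fun z : {y : V // T y = y} => z.1) h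
    rw [Module.natCard_eq_pow_finrank (K := ZMod p), Nat.card_zmod] at h1
    have h2 : p ^ finrank (ZMod p) (ker (T - 1)) ≤ p ^ 1 := by
      rw [pow_one]; exact h1.trans hfix
    exact (Nat.pow_le_pow_iff_right hpp.one_lt).mp h2
  have hfr := finrank_of_block (T - 1) p hpp.one_le e1 hN1 hker
  have h3 := Module.natCard_eq_pow_finrank (K := ZMod p) (V := V)
  rw [hfr, Nat.card_zmod] at h3
  exact h3

variable {A : Type*} [CommGroup A] [Finite A] {p : ℕ} [Fact p.Prime]

theorem card_of_block' [Module (ZMod p) (Additive A)] (τ : MulAut A) (hτ : τ ^ p = 1)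
    (hfix : Nat.card {a : A // τ a = a} ≤ p) (v : A)
    (hv : ∏ i ∈ Finset.range p, (τ ^ i) v ≠ 1) : Nat.card A = p ^ p := by
  let T : Additive A →ₗ[ZMod p] Additive A :=
    (MonoidHom.toAdditive τ.toMonoidHom).toZModLinearMap p
  have hT1 : ∀ a : A, T (Additive.ofMul a) = Additive.ofMul (τ a) := fun a => rfl
  have hT : ∀ (i : ℕ) (a : A), ((T : Module.End (ZMod p) (Additive A)) ^ i) (Additive.ofMul a)
      = Additive.ofMul ((τ ^ i) a) := by
    intro i
    induction i with
    | zero => intro a; rfl
    | succ i ih =>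
      intro a
      rw [pow_succ', Module.End.mul_apply, ih, hT1, pow_succ']
      rfl
  have hTp : (T : Module.End (ZMod p) (Additive A)) ^ p = 1 := by
    ext y
    have := hT p y.toMul
    rw [hτ] at this
    exact this
  refine card_of_block_lin (V := Additive A) T hTp ?_ (Additive.ofMul v) ?_
  · exact hfix
  · simp only [hT]
    rw [← ofMul_prod]
    exact fun h => hv (Additive.ofMul.injective h)

theorem card_of_block (hA : ∀ a : A, a ^ p = 1) (τ : MulAut A) (hτ : τ ^ p = 1)
    (hfix : Nat.card {a : A // τ a = a} ≤ p) (v : A)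
    (hv : ∏ i ∈ Finset.range p, (τ ^ i) v ≠ 1) : Nat.card A = p ^ p :=
  have h0 : ∀ x : Additive A, p • x = 0 := fun x => congrArg Additive.ofMul (hA x.toMul)
  @card_of_block' A _ _ p _ (AddCommGroup.zmodModule h0) τ hτ hfix v hv

end Block

end Cfsg.Agent.Lib.Helper95.HH
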