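/-
Helper library (helper95): piece W2 of helper53's Hall-Higman farm (S3787), the group part, minimal case.
-/
import Mathlib
import Cfsg.Agent.Lib.Helper53.HH.Defs2
import Cfsg.Agent.Lib.Helper95.HHW2a

set_option autoImplicit false
set_option linter.unusedSectionVars false

namespace Cfsg.Agent.Lib.Helper95.HH

open Subgroup Cfsg.Agent.Lib.Helper53.HH
open scoped IsMulCommutative

variable {Γ : Type*} [Group Γ] (E : Subgroup Γ) [E.Normal]

theorem tau_pow_apply (x : Γ) (i : ℕ) (e : E) :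
    (((MulAut.conjNormal x : MulAut E) ^ i) e : Γ) = x ^ i * e * (x ^ i)⁻¹ := by
  rw [← map_pow]; exact MulAut.conjNormal_apply ..

variable [IsMulCommutative E]

theorem mul_pow_formula (x : Γ) (e : E) (k : ℕ) :
    ((e : Γ) * x) ^ k =
      ((∏ i ∈ Finset.range k, ((MulAut.conjNormal x : MulAut E) ^ i) e : E) : Γ) * x ^ k := by
  induction k with
  | zero => simp
  | succ k ih =>
    rw [pow_succ, ih, Finset.prod_range_succ, Subgroup.coe_mul, tau_pow_apply, pow_succ]
    simp only [mul_assoc, inv_mul_cancel_left]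

theorem nm_zpow (x : Γ) (e : E) (k : ℕ) (j : ℤ) :
    ∏ i ∈ Finset.range k, ((MulAut.conjNormal x : MulAut E) ^ i) (e ^ j) =
      (∏ i ∈ Finset.range k, ((MulAut.conjNormal x : MulAut E) ^ i) e) ^ j := by
  simp only [map_zpow, Finset.prod_zpow]

theorem card_quot_of_sup [Finite Γ] {p : ℕ} [Fact p.Prime] (x : Γ) (hxE : x ∉ E) (hxp : x ^ p ∈ E)
    (htop : E ⊔ zpowers x = ⊤) : Nat.card (Γ ⧸ E) = p := by
  have h1 : (QuotientGroup.mk' E x) ^ p = 1 := by
    rw [← map_pow]; exact (QuotientGroup.eq_one_iff _).mpr hxp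
  have h2 : QuotientGroup.mk' E x ≠ 1 := fun h => hxE ((QuotientGroup.eq_one_iff _).mp h)
  have h3 : orderOf (QuotientGroup.mk' E x) = p := orderOf_eq_prime h1 h2
  have h4 : zpowers (QuotientGroup.mk' E x) = ⊤ := by
    have h5 := congrArg (Subgroup.map (QuotientGroup.mk' E)) htop
    rw [Subgroup.map_sup, MonoidHom.map_zpowers, Subgroup.map_top_of_surjective _
      (QuotientGroup.mk'_surjective E), QuotientGroup.map_mk'_self, bot_sup_eq] at h5
    exact h5
  rw [← h3, ← Nat.card_zpowers, h4]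
  exact (Nat.card_congr (Subgroup.topEquiv (G := Γ ⧸ E)).toEquiv).symm

theorem isWr_of_min [Finite Γ] {p : ℕ} [Fact p.Prime] (hEp : ∀ a ∈ E, a ^ p = 1) (x : Γ)
    (hxE : x ∉ E) (hxp : x ^ p ∈ E) (htop : E ⊔ zpowers x = ⊤) (v : Γ) (hv : v ∈ E)
    (hnorm : (v * x) ^ p ≠ x ^ p)
    (hmin : ∀ N : Subgroup Γ, N.Normal → N ≤ E → N ≠ ⊥ → (v * x) ^ p * (x ^ p)⁻¹ ∈ N) :
    IsWr p Γ := by
  have hpp : p.Prime := Fact.out
  have hEc : ∀ a ∈ E, ∀ b ∈ E, a * b = b * a := fun a ha b hb =>
    congrArg Subtype.val (mul_comm (⟨a, ha⟩ : E) ⟨b, hb⟩)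
  set τ : MulAut E := MulAut.conjNormal x with hτ
  have hτa : ∀ e : E, ((τ e : E) : Γ) = x * e * x⁻¹ := fun e => MulAut.conjNormal_apply ..
  set n' : E := ∏ i ∈ Finset.range p, (τ ^ i) ⟨v, hv⟩ with hn'
  have h1 : (v * x) ^ p = (n' : Γ) * x ^ p := mul_pow_formula E x ⟨v, hv⟩ p
  have h2 : (v * x) ^ p * (x ^ p)⁻¹ = (n' : Γ) := by rw [h1]; simp
  have hn1 : n' ≠ 1 := by
    intro h
    rw [h] at h1
    exact hnorm (by simpa using h1)
  have hn1' : (n' : Γ) ≠ 1 := fun h => hn1 (Subtype.ext h)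
  have hno : orderOf (n' : Γ) = p := orderOf_eq_prime (hEp _ n'.2) hn1'
  have hτp : τ ^ p = 1 := by
    ext e
    rw [tau_pow_apply, hEc _ hxp _ e.2]
    simp
  -- fixed points are central
  have hcent : ∀ c : E, τ c = c → ∀ g : Γ, g * c = c * g := by
    intro c hc
    have h3 : E ⊔ zpowers x ≤ centralizer ({(c : Γ)} : Set Γ) := by
      refine sup_le ?_ ?_
      · intro e he
        exact mem_centralizer_singleton_iff.mpr (hEc _ he _ c.2)
      · rw [zpowers_le, mem_centralizer_singleton_iff]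
        have h4 := hτa c
        rw [hc] at h4
        rw [eq_mul_inv_iff_mul_eq] at h4
        exact h4.symm
    intro g
    have : g ∈ centralizer ({(c : Γ)} : Set Γ) := h3 (by rw [htop]; trivial)
    exact mem_centralizer_singleton_iff.mp this
  have hfixsub : ∀ c : E, τ c = c → (c : Γ) ∈ zpowers (n' : Γ) := by
    intro c hc
    by_cases hc1 : (c : Γ) = 1
    · rw [hc1]; exact one_mem _
    have hN : (zpowers (c : Γ)).Normal := by
      constructor
      intro y hy g
      obtain ⟨k, rfl⟩ := mem_zpowers_iff.mp hy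
      have : Commute g ((c : Γ) ^ k) := (show Commute g (c : Γ) from hcent c hc g).zpow_right k
      rw [this.eq]
      simp
    have h3 := hmin _ hN (zpowers_le.mpr c.2) (by rw [Ne, zpowers_eq_bot]; exact hc1)
    rw [h2] at h3
    have h4 : zpowers (n' : Γ) = zpowers (c : Γ) := by
      apply Subgroup.eq_of_le_of_card_ge (zpowers_le.mpr h3)
      rw [Nat.card_zpowers, Nat.card_zpowers, hno, orderOf_eq_prime (hEp _ c.2) hc1]
    rw [h4]; exact mem_zpowers _
  have hfixn : τ n' = n' := by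
    have h3 : τ n' = ∏ i ∈ Finset.range p, (τ ^ (i + 1)) ⟨v, hv⟩ := by
      rw [hn', map_prod]
      refine Finset.prod_congr rfl fun i _ => ?_
      rw [pow_succ']; rfl
    have h4 := Finset.prod_range_succ (fun i => (τ ^ i) (⟨v, hv⟩ : E)) p
    rw [Finset.prod_range_succ', ← h3, ← hn', hτp] at h4
    simpa using h4
  have hfix : Nat.card {a : E // τ a = a} ≤ p := by
    rw [← hno, ← Nat.card_zpowers]
    refine Nat.card_le_card_of_injective (fun a => ⟨(a.1 : Γ), hfixsub a.1 a.2⟩) ?_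
    intro a b hab
    apply Subtype.ext
    apply Subtype.ext
    exact congrArg (fun z : zpowers (n' : Γ) => z.1) hab
  have hcardE : Nat.card E = p ^ p :=
    card_of_block (fun a => Subtype.ext (hEp a a.2)) τ hτp hfix ⟨v, hv⟩ hn1
  -- the element t
  have hxpfix : τ ⟨x ^ p, hxp⟩ = ⟨x ^ p, hxp⟩ := by
    apply Subtype.ext
    rw [hτa]
    show x * x ^ p * x⁻¹ = x ^ p
    rw [← pow_succ', pow_succ]; simp
  obtain ⟨j, hj⟩ := mem_zpowers_iff.mp (hfixsub _ hxpfix)
  have hj' : (n' : Γ) ^ j = x ^ p := hj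
  set u : E := (⟨v, hv⟩ : E) ^ (-j) with hu
  have htp : ((u : Γ) * x) ^ p = 1 := by
    rw [mul_pow_formula E x u p, hu, nm_zpow, ← hτ, ← hn', ← hj']
    simp
  have htE : (u : Γ) * x ∉ E := fun h => hxE (by
    have := E.mul_mem (E.inv_mem u.2) h
    simpa using this)
  have hto : orderOf ((u : Γ) * x) = p :=
    orderOf_eq_prime htp (fun h => htE (by rw [h]; exact E.one_mem))
  have hcardΓ : Nat.card Γ = p ^ (p + 1) := by
    rw [Subgroup.card_eq_card_quotient_mul_card_subgroup E, card_quot_of_sup E x hxE hxp htop,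
      hcardE, pow_succ, mul_comm]
  have hCt : E ⊓ centralizer ({(u : Γ) * x} : Set Γ) = zpowers (n' : Γ) := by
    apply le_antisymm
    · intro e hee
      have he : e ∈ E := hee.1
      have hec : e ∈ centralizer ({(u : Γ) * x} : Set Γ) := hee.2
      rw [mem_centralizer_singleton_iff] at hec
      refine hfixsub ⟨e, he⟩ ?_
      apply Subtype.ext
      rw [hτa]
      show x * e * x⁻¹ = e
      rw [mul_inv_eq_iff_eq_mul]
      have h3 : (u : Γ) * (e * x) = (u : Γ) * (x * e) := by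
        rw [← mul_assoc, ← mul_assoc, ← hEc _ he _ u.2, mul_assoc, hec]
      exact (mul_left_cancel h3).symm
    · rw [zpowers_le]
      exact ⟨n'.2, mem_centralizer_singleton_iff.mpr (hcent n' hfixn _).symm⟩
  refine ⟨E, (u : Γ) * x, inferInstance, inferInstance, hEp, hcardE, hto, htE, hcardΓ, ?_⟩
  rw [hCt, Nat.card_zpowers, hno]

end Cfsg.Agent.Lib.Helper95.HH
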