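import Cfsg.Agent.Lib.Helper13.Asch.Main
import Cfsg.Agent.Lib.Helper58.Asch.D1
import Cfsg.Agent.Lib.Helper58.Asch.D1c
import Cfsg.Agent.Lib.Helper58.Asch.D6
import Cfsg.Agent.Lib.Helper73.Asch.D1d
import Cfsg.Agent.Lib.Helper73.Asch.D1f
import Cfsg.Agent.Lib.Helper73.Asch.D1g
import Cfsg.Agent.Lib.Helper55.Asch.D3a
import Cfsg.Agent.Lib.Helper55.Asch.D3b
import Cfsg.Agent.Lib.Helper55.Asch.D3c
import Cfsg.Agent.Lib.Helper55.Asch.D4
import Cfsg.Agent.Lib.Helper55.Asch.DecCore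
import Cfsg.Agent.Lib.Helper79.Asch.D5
import Cfsg.Agent.Lib.Helper65.Asch.D9

set_option autoImplicit false

/-!
# The shared lemmas D0-D9 of the campaign on the subgroups of `GL_n(q)`, in one namespace
-/

namespace Cfsg.Agent.Lib.Helper95.AschD

open Cfsg Cfsg.Geo Matrix Cfsg.Agent.Lib.Helper13.Asch
open scoped Kronecker MatrixGroups

variable {ι : Type} [Fintype ι] [DecidableEq ι] {F : Type*} [Field F]

/-- D0 -/
theorem eq_inf_of_maximal {H M : Subgroup (GL ι F)} (hH : IsMaximalIn (specialLinear ι F) H)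
    (hHM : H ≤ M) (hM : ¬ specialLinear ι F ≤ M) : H = M ⊓ specialLinear ι F :=
  Cfsg.Agent.Lib.Helper58.Asch.eq_inf_of_maximal hH hHM hM

/-- D1a -/
theorem sl_not_le_stab (W : Submodule F (ι → F)) (h0 : W ≠ ⊥) (h1 : W ≠ ⊤) :
    ¬ specialLinear ι F ≤ subspaceStabilizer W :=
  Cfsg.Agent.Lib.Helper58.Asch.sl_not_le_stab W h0 h1

/-- D1b -/
theorem sl_not_le_decomp {t m : ℕ} (D : Fin t → Submodule F (ι → F)) (hD : IsMDecomposition m D) :
    ¬ specialLinear ι F ≤ decompositionStabilizer D :=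
  Cfsg.Agent.Lib.Helper58.Asch.sl_not_le_decomp D hD

/-- D1c -/
theorem sl_not_le_field (hι : 3 ≤ Fintype.card ι) {r : ℕ} (hr : r.Prime)
    (K : Subalgebra F (Matrix ι ι F)) (hK : IsFieldSubalgebra r K) :
    ¬ specialLinear ι F ≤ subalgebraNormalizer K :=
  Cfsg.Agent.Lib.Helper58.Asch.sl_not_le_field hι hr K hK

/-- D1d -/
theorem sl_not_le_tensor {a b : ℕ} (ha : 2 ≤ a) (hb : 2 ≤ b) (e : ι ≃ Fin a × Fin b) (P : GL ι F) :
    ¬ specialLinear ι F ≤ tensorProductSubgroup a b e P :=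
  Cfsg.Agent.Lib.Helper73.Asch.sl_not_le_tensor ha hb e P

/-- D1e -/
theorem sl_not_le_subfield (hι : 2 ≤ Fintype.card ι) (F₀ : Subfield F) (hF₀ : F₀ ≠ ⊤) (P : GL ι F) :
    ¬ specialLinear ι F ≤ subfieldSubgroup F₀ P :=
  Cfsg.Agent.Lib.Helper58.Asch.sl_not_le_subfield hι F₀ hF₀ P

/-- D1f -/
theorem sl_not_le_sympNormalizer [Fintype F] (hι : 3 ≤ Fintype.card ι) {r : ℕ}
    (R : Subgroup (GL ι F)) (hR : IsLinearSymplecticTypeData r R) :
    ¬ specialLinear ι F ≤ subgroupNormalizer R :=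
  Cfsg.Agent.Lib.Helper73.Asch.sl_not_le_sympNormalizer hι R hR

/-- D1g -/
theorem sl_not_le_wreath_two {m : ℕ} (hm : 2 ≤ m) (e : ι ≃ (Fin 2 → Fin m)) (P : GL ι F) :
    ¬ specialLinear ι F ≤ tensorWreathSubgroup m 2 e P :=
  Cfsg.Agent.Lib.Helper73.Asch.sl_not_le_wreath_two hm e P

/-- D1h -/
theorem sl_not_le_sim (hι : 3 ≤ Fintype.card ι) (f : (ι → F) → (ι → F) → F)
    (hadd : ∀ x y v, f (x + y) v = f x v + f y v) (hnd : IsNondegenerateForm f) :
    ¬ specialLinear ι F ≤ similarityGroup f :=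
  Cfsg.Agent.Lib.Helper58.Asch.sl_not_le_sim hι f hadd hnd

/-- D1i -/
theorem sl_not_le_quadSim (hι : 3 ≤ Fintype.card ι) (Q : (ι → F) → F)
    (hQ : IsNondegenerateQuadraticForm Q) : ¬ specialLinear ι F ≤ quadSimilarityGroup Q :=
  Cfsg.Agent.Lib.Helper58.Asch.sl_not_le_quadSim hι Q hQ

/-- D3a -/
theorem monomial_two [Fintype F] (hq : Fintype.card F = 2) {t : ℕ} (D : Fin t → Submodule F (ι → F))
    (hD : IsMDecomposition 1 D) :
    ∃ W : Submodule F (ι → F), W ≠ ⊥ ∧ W ≠ ⊤ ∧ decompositionStabilizer D ≤ subspaceStabilizer W :=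
  Cfsg.Agent.Lib.Helper55.Asch.monomial_two hq D hD

/-- D3b -/
theorem monomial_three [Fintype F] (hq : Fintype.card F = 3) {t : ℕ}
    (D : Fin t → Submodule F (ι → F)) (hD : IsMDecomposition 1 D) :
    ∃ Q : (ι → F) → F, IsNondegenerateQuadraticForm Q ∧
      decompositionStabilizer D ≤ quadSimilarityGroup Q :=
  Cfsg.Agent.Lib.Helper55.Asch.monomial_three hq D hD

/-- D3c -/
theorem monomial_four [Fintype F] (hq : Fintype.card F = 4) {t : ℕ}
    (D : Fin t → Submodule F (ι → F)) (hD : IsMDecomposition 1 D) :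
    ∃ (σ : F ≃+* F) (f : (ι → F) → (ι → F) → F), IsUnitaryForm σ f ∧
      decompositionStabilizer D ≤ similarityGroup f :=
  Cfsg.Agent.Lib.Helper55.Asch.monomial_four hq D hD

/-- D4 -/
theorem blocks_two [Fintype F] (hq : Fintype.card F = 2) {t : ℕ} (D : Fin t → Submodule F (ι → F))
    (hD : IsMDecomposition 2 D) :
    ∃ f : (ι → F) → (ι → F) → F, IsSymplecticForm f ∧
      decompositionStabilizer D ≤ similarityGroup f :=
  Cfsg.Agent.Lib.Helper55.Asch.blocks_two hq D hD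

/-- D5 -/
theorem tensor_two_field [Fintype F] (hq : Fintype.card F = 2) {k : ℕ} (hk : 0 < k)
    (e : ι ≃ Fin 2 × Fin k) (P : GL ι F) :
    ∃ K : Subalgebra F (Matrix ι ι F), IsFieldSubalgebra 2 K ∧
      tensorProductSubgroup 2 k e P ≤ subalgebraNormalizer K :=
  Cfsg.Agent.Lib.Helper13.Asch.tensor_two_field hq hk e P

/-- D6 -/
theorem dvd_card_of_field {r : ℕ} (K : Subalgebra F (Matrix ι ι F)) (hK : IsFieldSubalgebra r K) :
    r ∣ Fintype.card ι :=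
  Cfsg.Agent.Lib.Helper58.Asch.dvd_card_of_field K hK

/-- D8 -/
theorem card_of_decomp {t m : ℕ} (D : Fin t → Submodule F (ι → F)) (hD : IsMDecomposition m D) :
    t * m = Fintype.card ι :=
  Cfsg.Agent.Lib.Helper55.Asch.card_of_decomp D hD

/-- D9 -/
theorem sympData_arith [Fintype F] {r : ℕ} (R : Subgroup (GL ι F)) (hι : 3 ≤ Fintype.card ι)
    (hR : IsLinearSymplecticTypeData r R) :
    ∃ p e : ℕ, p.Prime ∧ CharP F p ∧ Fintype.card F = p ^ e ∧ r ≠ p ∧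
      ((Odd r ∧ Odd e ∧ r ∣ p ^ e - 1 ∧ ∀ d, 0 < d → d < e → ¬ r ∣ p ^ d - 1) ∨
       (r = 2 ∧ e = 1 ∧ p % 4 = 1)) :=
  Cfsg.Agent.Lib.Helper65.Asch.sympData_arith R hι hR

/-- M0 -/
theorem main [Fintype F] (n : ℕ) (hn : 3 ≤ n) (H : Subgroup (GL (Fin n) F)) :
    Cls n H ∨ InLinearResidualClass H :=
  Cfsg.Agent.Lib.Helper13.Asch.main n hn H

end Cfsg.Agent.Lib.Helper95.AschD
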