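import Cfsg.Agent.Lib.Helper7.NS23Bridge

/-!
# Piece EXP of the S2650 farm (helper7): expansion in the systematic basis of `C0`
-/

set_option autoImplicit false

namespace Cfsg.Agent.Lib.Helper95.NS23

open Cfsg Cfsg.Agent.Lib.Helper27 Cfsg.Agent.Lib.Helper7.NS23

theorem Bm_lt (k : ℕ) : Bm k < 2 ^ 24 := by
  unfold Bm
  exact lt_of_le_of_lt Nat.and_le_right (by norm_num)

theorem bw_mem_C0 {k : ℕ} (hk : k < 11) : bw k ∈ C0 := by
  unfold bw
  rw [mem_C0_wordOf (Bm_lt k)]
  interval_cases k <;> decide +kernel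

theorem SM_eq_self {m : ℕ} (hm : isCode m = true) (h23 : m.testBit 23 = false) :
    SM 11 m = m := by
  have h := forall_isCode (fun m => Bool.rec (Nat.beq (SM 11 m) m) true (Nat.testBit m 23))
    (by decide +kernel) m hm
  simp only [h23] at h
  exact Nat.eq_of_beq_eq_true h

theorem Sx_eq_self {x : Wd} (hx : x ∈ C0) : Sx 11 x = x := by
  obtain ⟨m, hm, h23, rfl⟩ := exists_mask_of_mem_C0 hx
  rw [Sx_wordOf m 11 (by norm_num), SM_eq_self hm h23]

theorem Dg_mem_C0' (x y : Wd) : ∀ n ≤ 11, Dg n x y ∈ C0 := by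
  intro n
  induction n with
  | zero => intro _; exact C0.zero_mem
  | succ n ih =>
    intro hn
    exact C0.add_mem (ih (by omega)) (C0.smul_mem _ (bw_mem_C0 (by omega)))

theorem Dg_mem_C0 (x y : Wd) : Dg 11 x y ∈ C0 := Dg_mem_C0' x y 11 le_rfl

theorem dot_smul_right (c : ZMod 2) (a x : Wd) : dot a (c • x) = c * dot a x := by
  rw [dot_comm, dot_smul_left, dot_comm]

theorem dot_zero_right (x : Wd) : dot x 0 = 0 := by
  rw [dot_comm, dot_zero_left]

theorem dot_bw {w : Wd} (hw : w ∈ golayCode) {k : ℕ} (hk : k < 11) : dot w (bw k) = 0 := by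
  obtain ⟨m, hm, rfl⟩ := exists_mask w
  rw [wordOf_mem_iff hm] at hw
  have h := forall_isCode
    (fun m => allBelow (fun k => Nat.beq (Nat.mod (pc (Nat.land m (Bm k))) 2) 0) 11)
    (by decide +kernel) m hw
  have h2 := Nat.eq_of_beq_eq_true ((allBelow_iff _ _).1 h k hk)
  unfold bw
  rw [dot_wordOf]
  exact (ZMod.natCast_eq_zero_iff _ 2).2 (Nat.dvd_of_mod_eq_zero h2)

theorem dot_Sx {w : Wd} (hw : w ∈ golayCode) (x : Wd) : ∀ n ≤ 11, dot w (Sx n x) = 0 := by
  intro n
  induction n with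
  | zero => intro _; exact dot_zero_right w
  | succ n ih =>
    intro hn
    show dot w (Sx n x + x (pt n) • bw n) = 0
    rw [dot_add_right, ih (by omega), dot_smul_right, dot_bw hw (by omega), mul_zero, add_zero]

theorem dot_eq_zero {w x : Wd} (hw : w ∈ golayCode) (hx : x ∈ C0) : dot w x = 0 := by
  rw [← Sx_eq_self hx]
  exact dot_Sx hw x 11 le_rfl

end Cfsg.Agent.Lib.Helper95.NS23
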