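import Cfsg.Agent.Lib.Helper95.NS23EXP

/-!
# Piece SURJ of the S2650 farm (helper7): every additive functional on `C0` is `dot w`
-/

set_option autoImplicit false

namespace Cfsg.Agent.Lib.Helper95.NS23

open Cfsg Cfsg.Agent.Lib.Helper27 Cfsg.Agent.Lib.Helper7.NS23

theorem Sx_mem_C0 (x : Wd) : ∀ n ≤ 11, Sx n x ∈ C0 := by
  intro n
  induction n with
  | zero => intro _; exact C0.zero_mem
  | succ n ih =>
    intro hn
    exact C0.add_mem (ih (by omega)) (C0.smul_mem _ (bw_mem_C0 (by omega)))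

theorem dot_single (p : GolayPt) (x : Wd) : dot (Pi.single p 1) x = x p := by
  simp [dot, Pi.single_apply]

theorem map_smul_two (l : C0 →+ ZMod 2) (c : ZMod 2) (z : C0) : l (c • z) = c * l z := by
  have hc : c = 0 ∨ c = 1 := by revert c; decide
  rcases hc with rfl | rfl <;> simp

/-- value of the functional on the `k`-th basis word -/
noncomputable def lb (l : C0 →+ ZMod 2) (k : ℕ) : ZMod 2 :=
  if h : k < 11 then l ⟨bw k, bw_mem_C0 h⟩ else 0

/-- the representing word, built up -/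
noncomputable def Wl (l : C0 →+ ZMod 2) : ℕ → Wd
  | 0 => 0
  | n + 1 => Wl l n + lb l n • Pi.single (pt n) 1

theorem l_Sx (l : C0 →+ ZMod 2) (x : Wd) :
    ∀ n (hn : n ≤ 11), l ⟨Sx n x, Sx_mem_C0 x n hn⟩ = dot (Wl l n) x := by
  intro n
  induction n with
  | zero =>
    intro _
    rw [show Wl l 0 = 0 from rfl, dot_zero_left]
    exact l.map_zero
  | succ n ih =>
    intro hn
    have hn' : n < 11 := by omega
    have e : (⟨Sx (n + 1) x, Sx_mem_C0 x (n + 1) hn⟩ : C0)
        = ⟨Sx n x, Sx_mem_C0 x n (by omega)⟩ + x (pt n) • (⟨bw n, bw_mem_C0 hn'⟩ : C0) := rfl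
    rw [e, l.map_add, ih (by omega), map_smul_two]
    show _ = dot (Wl l n + lb l n • Pi.single (pt n) 1) x
    rw [dot_add_left, dot_smul_left, dot_single, lb, dif_pos hn', mul_comm]

theorem pair_surj (l : C0 →+ ZMod 2) : ∃ w : Wd, ∀ x : C0, l x = dot w (x : Wd) := by
  refine ⟨Wl l 11, fun x => ?_⟩
  rw [← l_Sx l x 11 le_rfl]
  congr 1
  exact Subtype.ext (Sx_eq_self x.2).symm

end Cfsg.Agent.Lib.Helper95.NS23
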