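import Mathlib

set_option autoImplicit false

namespace Cfsg.Agent.Lib.Helper95

/-- For a transitive action of a finite group, every power of `p` dividing the degree divides the
length of every orbit of a Sylow `p`-subgroup. -/
theorem sylow_orbit_dvd {G Ω : Type*} [Group G] [Finite G] [MulAction G Ω]
    [MulAction.IsPretransitive G Ω] {p : ℕ} [Fact p.Prime] (P : Sylow p G) (ω : Ω) (j : ℕ)
    (hj : p ^ j ∣ Nat.card Ω) : p ^ j ∣ Nat.card (MulAction.orbit (P : Subgroup G) ω) := by
  set H := MulAction.stabilizer G ω with hH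
  have hidx : H.index = Nat.card Ω := by
    rw [hH, MulAction.index_stabilizer, MulAction.orbit_eq_univ, Set.ncard_univ]
  have hstab : MulAction.stabilizer (P : Subgroup G) ω = H.subgroupOf (P : Subgroup G) := by
    ext g
    simp [hH, Subgroup.mem_subgroupOf, MulAction.mem_stabilizer_iff, Subgroup.smul_def]
  have horb : Nat.card (MulAction.orbit (P : Subgroup G) ω) = H.relIndex (P : Subgroup G) := by
    rw [Subgroup.relIndex, ← hstab, MulAction.index_stabilizer, Nat.card_coe_set_eq]
  rw [horb]
  have h1 : H.relIndex (P : Subgroup G) * (P : Subgroup G).index = (H ⊓ (P : Subgroup G)).index := by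
    rw [← Subgroup.inf_relIndex_right, Subgroup.relIndex_mul_index inf_le_right]
  have h2 : (P : Subgroup G).relIndex H * H.index = (H ⊓ (P : Subgroup G)).index := by
    rw [← Subgroup.inf_relIndex_left, Subgroup.relIndex_mul_index inf_le_left]
  have h3 : p ^ j ∣ H.relIndex (P : Subgroup G) * (P : Subgroup G).index := by
    rw [h1, ← h2, hidx]
    exact Dvd.dvd.mul_left hj _
  have hcop : Nat.Coprime (p ^ j) (P : Subgroup G).index :=
    Nat.Coprime.pow_left _ ((Nat.Prime.coprime_iff_not_dvd Fact.out).mpr P.not_dvd_index)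
  exact hcop.dvd_of_dvd_mul_right h3

end Cfsg.Agent.Lib.Helper95
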